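import Groth.Agent.LimAmpleLib.Exists
import Groth.Agent.ConsLib.FGSystem
import Groth.Agent.NormDescLib.NormBundle
import Groth.Agent.NormDescLib.FinLocFree
import Groth.Agent.AmpleDevLib.Pull
import Groth.Agent.MiscFlat6.MorSmall
import Mathlib.RingTheory.Jacobson.Ring

/-!
# Ampleness descends along an extension of the base field
-/

set_option autoImplicit false
universe u

open CategoryTheory CategoryTheory.Limits AlgebraicGeometry TopologicalSpace Opposite

noncomputable section

namespace AmpleExtLib

variable {k : Type u} [Field k] {X : Scheme.{u}} (f : X ⟶ Spec (CommRingCat.of k))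

theorem specMap_flat_surjective (K : Type u) [CommRing K] [Nontrivial K] [Algebra k K] :
    Flat (Spec.map (CommRingCat.ofHom (algebraMap k K))) ∧
      Surjective (Spec.map (CommRingCat.ofHom (algebraMap k K))) := by
  refine ⟨(HasRingHomProperty.Spec_iff (P := @Flat)).mpr
    (RingHom.flat_algebraMap_iff.mpr inferInstance), ⟨fun x => ?_⟩⟩
  obtain ⟨y⟩ := (inferInstance : Nonempty (PrimeSpectrum K))
  exact ⟨y, Subsingleton.elim _ _⟩

/-- A finite extension of the base field. -/
theorem exists_isAmple_of_finite (K : Type u) [Field K] [Algebra k K] [Module.Finite k K]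
    {L : (pullback f (Spec.map (CommRingCat.ofHom (algebraMap k K)))).Modules} (hA : CohB1.IsAmple L) :
    ∃ M : X.Modules, CohB1.IsAmple M := by
  let q := Spec.map (CommRingCat.ofHom (algebraMap k K))
  haveI : IsFinite q := (IsFinite.SpecMap_iff (f := CommRingCat.ofHom (algebraMap k K))).mpr
    (RingHom.finite_algebraMap.mpr inferInstance)
  haveI := (specMap_flat_surjective (k := k) K).1
  haveI : LocallyOfFinitePresentation q := (HasRingHomProperty.Spec_iff (P := @LocallyOfFinitePresentation)).mpr
    (RingHom.finitePresentation_algebraMap.mpr (Algebra.FinitePresentation.of_finiteType.mp inferInstance))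
  let π := pullback.fst f q
  haveI : IsFinite π := MorphismProperty.pullback_fst _ _ inferInstance
  haveI : Flat π := MorphismProperty.pullback_fst _ _ inferInstance
  haveI : LocallyOfFinitePresentation π := MorphismProperty.pullback_fst _ _ inferInstance
  have hrk : ∀ y : X, π.finrank y = Module.finrank k K := fun y => by
    rw [Scheme.Hom.finrank_of_isPullback (pullback.snd f q) π q f (IsPullback.of_hasPullback f q).flip y]
    haveI : Module.Free k K := inferInstance
    refine (Scheme.Hom.finrank_SpecMap_algebraMap k K (f y)).trans ?_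
    rw [Module.rankAtStalk_eq_finrank_of_free]
    rfl
  obtain ⟨N⟩ := NormDescLib.hasNorm_of_finrank π Module.finrank_pos hrk
  exact NormDescLib.exists_isAmple N hA

/-- **Ampleness descends along a field extension.** -/
theorem exists_isAmple_of_pullback (K : Type u) [Field K] [Algebra k K]
    {L : (pullback f (Spec.map (CommRingCat.ofHom (algebraMap k K)))).Modules} (hA : CohB1.IsAmple L) :
    ∃ M : X.Modules, CohB1.IsAmple M := by
  let q := Spec.map (CommRingCat.ofHom (algebraMap k K))
  haveI := (specMap_flat_surjective (k := k) K).2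
  haveI : Surjective (pullback.fst f q) := MorphismProperty.pullback_fst _ _ inferInstance
  haveI : CompactSpace (pullback f q : Scheme.{u}) := hA.2.1
  haveI := AmpleThLib.quasiSeparatedSpace_of_isAmple hA
  haveI : CompactSpace X := (pullback.fst f q).surjective.compactSpace (pullback.fst f q).continuous
  haveI : QuasiSeparatedSpace X := MiscFlat6.quasiSeparatedSpace_of_surjective (pullback.fst f q)
  let A := ConsLib.fgSys k K (Iso.refl (Spec (CommRingCat.of k)))
  have hs : A.s = q := Category.comp_id _
  let B := RichLib.LimBC.pb A f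
  haveI := fun (i j : (ConsLib.FGSub k K)ᵒᵖ) (a : i ⟶ j) => B.affine_map a
  haveI := fun i => B.compactSpace_obj i
  haveI := fun i => B.quasiSeparatedSpace_obj i
  have hA' : ∃ L' : B.c.pt.Modules, CohB1.IsAmple L' := by
    refine ⟨(Scheme.Modules.pullback (pullback.congrHom rfl hs).hom).obj L, ?_⟩
    exact AmpleDevLib.isAmple_pb (f := (pullback.congrHom rfl hs).hom) hA.1 hA
  obtain ⟨L', hL'⟩ := hA'
  obtain ⟨j, M, hM⟩ := LimAmpleLib.exists_isAmple_some_stage B.hc hL'
  -- a closed point of the stage
  let R : Subalgebra k K := j.unop.1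
  haveI : Algebra.FiniteType k R := ⟨(Subalgebra.fg_top _).mpr j.unop.2⟩
  obtain ⟨m, hm⟩ := Ideal.exists_maximal R
  letI : Field (R ⧸ m) := Ideal.Quotient.field m
  haveI : Algebra.FiniteType k (R ⧸ m) := Algebra.FiniteType.of_surjective (Ideal.Quotient.mkₐ k m)
    (Ideal.Quotient.mkₐ_surjective k m)
  haveI : Module.Finite k (R ⧸ m) := finite_of_finite_type_of_isJacobsonRing k (R ⧸ m)
  let qR := Spec.map (CommRingCat.ofHom (algebraMap k (R ⧸ m)))
  let cR : Spec (CommRingCat.of (R ⧸ m)) ⟶ A.D.obj j := Spec.map (CommRingCat.ofHom (Ideal.Quotient.mk m))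
  have hcR : cR ≫ A.t j = qR := by
    refine (Category.assoc _ _ _).symm.trans ((Category.comp_id _).trans ?_)
    exact (Spec.map_comp _ _).symm
  let ψ : pullback f qR ⟶ pullback f (A.t j) :=
    pullback.map f qR f (A.t j) (𝟙 X) cR (𝟙 _) (by simp) (by simp [hcR])
  have hsq : IsPullback ψ (pullback.snd f qR) (pullback.snd f (A.t j)) cR := by
    refine IsPullback.of_right ?_ (pullback.lift_snd _ _ _) (IsPullback.of_hasPullback f (A.t j))
    rw [pullback.lift_fst, Category.comp_id, hcR]
    exact IsPullback.of_hasPullback f qR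
  haveI : IsAffineHom ψ := MorphismProperty.of_isPullback (P := @IsAffineHom) hsq.flip
    (show IsAffineHom cR from isAffineHom_of_isAffine (X := Spec _) (Y := Spec _) _)
  exact exists_isAmple_of_finite f (R ⧸ m) (AmpleDevLib.isAmple_pb (f := ψ) hM.1 hM)

end AmpleExtLib
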